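import Mathlib

set_option autoImplicit false

/-!
# Cyclic Galois theory of a finite field, in elementary terms

For an automorphism `σ` of a finite field `F` with fixed field `fixF σ`: the degree, the norm as
a product over the powers of `σ`, and surjectivity of the norm.
-/

namespace Cfsg.Agent.Lib.Helper43.FieldAut

open Module

variable {F : Type*} [Field F] [Finite F] (σ : RingAut F)

theorem finite_ringAut (F : Type*) [Field F] [Finite F] : Finite (RingAut F) :=
  Finite.of_injective (fun e : RingAut F => (e : F → F)) DFunLike.coe_injective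

/-- The fixed field of `σ`. -/
noncomputable abbrev fixF : Subfield F := FixedPoints.subfield (Subgroup.zpowers σ) F

theorem mem_fixF {x : F} : x ∈ fixF σ ↔ σ x = x := by
  constructor
  · intro h
    exact h ⟨σ, Subgroup.mem_zpowers σ⟩
  · intro h g
    obtain ⟨g, hg⟩ := g
    have h1 : Subgroup.zpowers σ ≤ MulAction.stabilizer (RingAut F) x := by
      rw [Subgroup.zpowers_le]
      exact h
    exact h1 hg

theorem card_fixF_pow : Nat.card (fixF σ) ^ orderOf σ = Nat.card F := by
  classical
  have := finite_ringAut F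
  haveI : Fintype F := Fintype.ofFinite F
  haveI : Fintype (fixF σ) := Fintype.ofFinite _
  haveI : Fintype (Subgroup.zpowers σ) := Fintype.ofFinite _
  have h1 := FixedPoints.finrank_eq_card (Subgroup.zpowers σ) F
  have h2 := Module.card_eq_pow_finrank (K := fixF σ) (V := F)
  have h3 : Fintype.card (Subgroup.zpowers σ) = orderOf σ := by
    rw [← Nat.card_eq_fintype_card, Nat.card_zpowers]
  rw [h3] at h1
  rw [Nat.card_eq_fintype_card, Nat.card_eq_fintype_card, h2, h1]

theorem norm_eq_prod (a : F) :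
    algebraMap (fixF σ) F (Algebra.norm (fixF σ) a) =
      ∏ i ∈ Finset.range (orderOf σ), (σ ^ i) a := by
  classical
  have := finite_ringAut F
  haveI : Fintype (Subgroup.zpowers σ) := Fintype.ofFinite _
  rw [Algebra.norm_eq_prod_automorphisms]
  have e := FixedPoints.toAlgAutMulEquiv (Subgroup.zpowers σ) F
  have h1 : ∏ τ : Gal(F/fixF σ), τ a = ∏ g : Subgroup.zpowers σ, (g : RingAut F) a := by
    symm
    exact Fintype.prod_equiv (FixedPoints.toAlgAutMulEquiv (Subgroup.zpowers σ) F).toEquiv _ _
      (fun g => rfl)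
  rw [h1]
  have h2 : ∏ g : Subgroup.zpowers σ, (g : RingAut F) a =
      ∏ i : Fin (orderOf σ), (σ ^ (i : ℕ)) a := by
    symm
    exact Fintype.prod_equiv (finEquivZPowers (isOfFinOrder_of_finite σ)) _ _ (fun i => rfl)
  rw [h2, Fin.prod_univ_eq_prod_range (fun i => (σ ^ i) a)]

/-- The norm is onto the nonzero fixed elements. -/
theorem exists_norm_eq {lam : F} (h0 : lam ≠ 0) (hl : σ lam = lam) :
    ∃ μ : F, μ ≠ 0 ∧ ∏ i ∈ Finset.range (orderOf σ), (σ ^ i) μ = lam := by
  have hm : lam ∈ fixF σ := (mem_fixF σ).mpr hl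
  have h0' : (⟨lam, hm⟩ : fixF σ) ≠ 0 := fun h => h0 (congrArg Subtype.val h)
  obtain ⟨x, hx⟩ := FiniteField.unitsMap_norm_surjective (fixF σ) F (Units.mk0 _ h0')
  refine ⟨x, x.ne_zero, ?_⟩
  rw [← norm_eq_prod]
  have h1 : Algebra.norm (fixF σ) (x : F) = ⟨lam, hm⟩ := congrArg Units.val hx
  rw [h1]
  rfl

theorem prod_eq_pow (a : F) :
    ∏ i ∈ Finset.range (orderOf σ), (σ ^ i) a =
      a ^ ((Nat.card F - 1) / (Nat.card (fixF σ) - 1)) := by
  rw [← norm_eq_prod, FiniteField.algebraMap_norm_eq_pow]

end Cfsg.Agent.Lib.Helper43.FieldAut
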