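import Mathlib

set_option autoImplicit false

/-!
# Hilbert 90 for `GL_n` and a cyclic group of field automorphisms
-/

namespace Cfsg.Agent.Lib.Helper43.FieldAut

open Matrix

variable {F : Type*} [Field F] {m : Type*} [Fintype m] [DecidableEq m]

/-- The twisted trace `v ↦ Σ_{i<r} G_i σ^i(v)`. -/
noncomputable def twTr (σ : RingAut F) (G : ℕ → Matrix m m F) (r : ℕ) (v : m → F) : m → F :=
  ∑ i ∈ Finset.range r, G i *ᵥ (fun k => (σ ^ i) (v k))

omit [DecidableEq m] in
theorem sigma_mulVec (σ : RingAut F) (M : Matrix m m F) (v : m → F) :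
    (fun k => σ ((M *ᵥ v) k)) = M.map σ *ᵥ (fun k => σ (v k)) := by
  ext k
  exact RingHom.map_mulVec (σ : F →+* F) M v k

theorem twTr_fix (σ : RingAut F) (g : Matrix m m F) (G : ℕ → Matrix m m F) (r : ℕ)
    (h0 : G 0 = 1) (hs : ∀ i, G (i + 1) = g * (G i).map σ) (hr : G r = 1) (hσ : σ ^ r = 1)
    (v : m → F) : g *ᵥ (fun k => σ (twTr σ G r v k)) = twTr σ G r v := by
  have h1 : (fun k => σ (twTr σ G r v k)) =
      ∑ i ∈ Finset.range r, (G i).map σ *ᵥ (fun k => (σ ^ (i + 1)) (v k)) := by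
    ext k
    rw [twTr, Finset.sum_apply, map_sum, Finset.sum_apply]
    refine Finset.sum_congr rfl fun i _ => ?_
    have h := congrFun (sigma_mulVec σ (G i) (fun k => (σ ^ i) (v k))) k
    rw [pow_succ']
    exact h
  rw [h1, Matrix.mulVec_sum]
  have h2 : ∀ i ∈ Finset.range r, g *ᵥ ((G i).map σ *ᵥ (fun k => (σ ^ (i + 1)) (v k))) =
      G (i + 1) *ᵥ (fun k => (σ ^ (i + 1)) (v k)) := by
    intro i _
    rw [Matrix.mulVec_mulVec, hs]
  rw [Finset.sum_congr rfl h2]
  have h3 := Finset.sum_range_succ' (fun i => G i *ᵥ (fun k => (σ ^ i) (v k))) r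
  have h4 := Finset.sum_range_succ (fun i => G i *ᵥ (fun k => (σ ^ i) (v k))) r
  rw [h4] at h3
  have h5 : G r *ᵥ (fun k => (σ ^ r) (v k)) = G 0 *ᵥ (fun k => (σ ^ 0) (v k)) := by
    rw [hr, h0, hσ, pow_zero]
  rw [h5] at h3
  exact (add_right_cancel h3).symm

theorem span_twTr (σ : RingAut F) (G : ℕ → Matrix m m F) (r : ℕ) (h0 : G 0 = 1)
    (hσ : orderOf σ = r) (hpos : 0 < r) :
    Submodule.span F (Set.range (twTr σ G r)) = ⊤ := by
  by_contra hne
  obtain ⟨f, hf0, hf⟩ := Submodule.exists_le_ker_of_lt_top _ (lt_top_iff_ne_top.mpr hne)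
  apply hf0
  have hker : ∀ w : m → F, f (twTr σ G r w) = 0 := fun w =>
    LinearMap.mem_ker.mp (hf (Submodule.subset_span ⟨w, rfl⟩))
  have hinj : Function.Injective (fun i : Fin r => ((σ ^ (i : ℕ) : RingAut F) : F →* F)) := by
    intro i j hij
    have h1 : σ ^ (i : ℕ) = σ ^ (j : ℕ) := by
      ext a
      exact DFunLike.congr_fun hij a
    apply Fin.ext
    refine pow_injOn_Iio_orderOf ?_ ?_ h1
    · rw [Set.mem_Iio, hσ]; exact i.2
    · rw [Set.mem_Iio, hσ]; exact j.2
  have hli := (linearIndependent_monoidHom F F).comp _ hinj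
  rw [Fintype.linearIndependent_iff] at hli
  have key : ∀ v : m → F, ∀ i : Fin r, f (G i *ᵥ (fun k => (σ ^ (i : ℕ)) (v k))) = 0 := by
    intro v
    apply hli
    ext a
    have h1 := hker (a • v)
    rw [twTr, map_sum] at h1
    rw [Finset.sum_apply, Pi.zero_apply, ← h1, ← Fin.sum_univ_eq_sum_range
      (fun i => f (G i *ᵥ (fun k => (σ ^ i) ((a • v) k))))]
    refine Finset.sum_congr rfl fun i _ => ?_
    have h2 : (fun k => (σ ^ (i : ℕ)) ((a • v) k)) =
        (σ ^ (i : ℕ)) a • (fun k => (σ ^ (i : ℕ)) (v k)) := by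
      ext k
      simp
    rw [h2, Matrix.mulVec_smul, map_smul, Pi.smul_apply, smul_eq_mul, smul_eq_mul, mul_comm]
    rfl
  refine LinearMap.ext fun v => ?_
  have h := key v ⟨0, hpos⟩
  simp only [h0, pow_zero, Matrix.one_mulVec] at h
  simpa using h

/-- **Hilbert 90 for matrices**: a `σ`-cocycle `g` (with `g σ(g) ⋯ σ^{r-1}(g) = 1`) is a
coboundary. -/
theorem exists_fixed_matrix (σ : RingAut F) (g : Matrix m m F) (G : ℕ → Matrix m m F) (r : ℕ)
    (h0 : G 0 = 1) (hs : ∀ i, G (i + 1) = g * (G i).map σ) (hr : G r = 1)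
    (hσ : orderOf σ = r) (hpos : 0 < r) :
    ∃ h : Matrix m m F, IsUnit h ∧ g * h.map σ = h := by
  obtain ⟨s, hs1, hs2, hs3⟩ := exists_linearIndependent F (Set.range (twTr σ G r))
  rw [span_twTr σ G r h0 hσ hpos] at hs2
  let B : Module.Basis s F (m → F) := Module.Basis.mk hs3 (by rw [Subtype.range_coe]; exact hs2.ge)
  let e : m ≃ s := (Pi.basisFun F m).indexEquiv B
  let w : m → (m → F) := fun j => (e j : m → F)
  have hw : LinearIndependent F w := hs3.comp e e.injective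
  have hσr : σ ^ r = 1 := by rw [← hσ]; exact pow_orderOf_eq_one σ
  have hfix : ∀ j, g *ᵥ (fun k => σ (w j k)) = w j := by
    intro j
    obtain ⟨v, hv⟩ := hs1 (e j).2
    rw [show w j = twTr σ G r v from hv.symm]
    exact twTr_fix σ g G r h0 hs hr hσr v
  refine ⟨(Matrix.of w)ᵀ, ?_, ?_⟩
  · rw [← Matrix.linearIndependent_cols_iff_isUnit]
    exact hw
  · ext i j
    exact congrFun (hfix j) i

/-- **Hilbert 90** for scalars and a cyclic group. -/
theorem exists_scalar_of_norm_one (σ : RingAut F) (r : ℕ) (hσ : orderOf σ = r) (hpos : 0 < r)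
    (lam : F) (hN : ∏ i ∈ Finset.range r, (σ ^ i) lam = 1) :
    ∃ μ : F, μ ≠ 0 ∧ lam * σ μ = μ := by
  obtain ⟨h, hu, hh⟩ := exists_fixed_matrix (m := Unit) σ (Matrix.diagonal fun _ => lam)
    (fun i => Matrix.diagonal fun _ => ∏ j ∈ Finset.range i, (σ ^ j) lam) r
    (by simp) (by
      intro i
      rw [Matrix.diagonal_map (map_zero _), Matrix.diagonal_mul_diagonal]
      congr 1
      ext _
      rw [Finset.prod_range_succ', map_prod, mul_comm]
      simp [pow_succ']) (by rw [hN]; simp) hσ hpos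
  refine ⟨h () (), ?_, ?_⟩
  · intro h0
    rw [Matrix.isUnit_iff_isUnit_det, Matrix.det_unique] at hu
    simp [h0] at hu
  · have := congrFun (congrFun hh ()) ()
    rw [Matrix.diagonal_mul] at this
    exact this

end Cfsg.Agent.Lib.Helper43.FieldAut
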