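import Mathlib
import Cfsg.Agent.Lib.Helper43.AutPSLn.Final
import Cfsg.Agent.Lib.Helper43.FieldAut.Galois
import Cfsg.Agent.Lib.Helper43.FieldAut.H90
import Cfsg.Prelude.Def_LieTypeDatum

set_option autoImplicit false

/-!
# The inner-diagonal group of `PSL_n(q)` and cosets of field automorphisms
-/

namespace Cfsg.Agent.Lib.Helper43.FieldAut

open Matrix Cfsg.Agent.Lib.Helper43.AutPSLn

variable {n : ℕ} {F : Type*} [Field F]

local notation "Mx" => Matrix (Fin n) (Fin n) F
local notation "SLn" => Matrix.SpecialLinearGroup (Fin n) F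
local notation "PSLn" => Matrix.ProjectiveSpecialLinearGroup (Fin n) F
local notation "GLn" => GL (Fin n) F

/-! ### The named automorphisms -/

theorem innerDiag_iff (β : MulAut PSLn) :
    Cfsg.IsInnerDiagonalAutPSL β ↔ ∃ g : GLn, β = cG g := by
  constructor
  · rintro ⟨g, h⟩
    refine ⟨g, ?_⟩
    ext x
    obtain ⟨s, rfl⟩ := pmn_surjective x
    exact h s (glAut g s) (glAut_coe g s)
  · rintro ⟨g, rfl⟩
    exact isInnerDiagonal_cG g

theorem stdField_iff (σ : RingAut F) (β : MulAut PSLn) :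
    Cfsg.IsStdFieldAutPSL σ β ↔ β = fG σ := by
  constructor
  · intro h
    ext x
    obtain ⟨s, rfl⟩ := pmn_surjective x
    exact h s (fAutN σ s) (fAutN_coe σ s)
  · rintro rfl
    exact isStdField_fG σ

theorem invTranspose_iff (β : MulAut PSLn) :
    Cfsg.IsInverseTransposeAutPSL β ↔ β = iG := by
  constructor
  · intro h
    ext x
    obtain ⟨s, rfl⟩ := pmn_surjective x
    exact h s (itAut s) (itAut_coe s)
  · rintro rfl
    exact isInverseTranspose_iG

theorem inndiag_eq : Cfsg.inndiagPSL n F = (cG : GLn →* MulAut PSLn).range := by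
  have h : {β : MulAut PSLn | Cfsg.IsInnerDiagonalAutPSL β} =
      ((cG : GLn →* MulAut PSLn).range : Set (MulAut PSLn)) := by
    ext β
    rw [Set.mem_setOf_eq, innerDiag_iff]
    constructor
    · rintro ⟨g, rfl⟩
      exact ⟨g, rfl⟩
    · rintro ⟨g, rfl⟩
      exact ⟨g, rfl⟩
  show Subgroup.closure {β : MulAut PSLn | Cfsg.IsInnerDiagonalAutPSL β} = _
  rw [h, Subgroup.closure_eq]

section finite

variable [Fintype F] {p f : ℕ} [Fact p.Prime]

theorem range_cG_normal (hf : 1 ≤ f) (hF : Fintype.card F = p ^ f) (hn : 2 ≤ n) :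
    ((cG : GLn →* MulAut PSLn).range).Normal := by
  constructor
  rintro _ ⟨k, rfl⟩ α
  obtain ⟨g, σ, e, rfl⟩ := aut_decomp_all hf hF hn α
  obtain ⟨k', hk'⟩ := jG_cG e k
  have h1 : (cG g * fG σ * jG e : MulAut PSLn) * cG k =
      cG (g * Matrix.GeneralLinearGroup.map (σ : F →+* F) k') * (fG σ * jG e) := by
    rw [mul_assoc (cG g * fG σ), hk', ← mul_assoc, mul_assoc (cG g), fG_cG, map_mul]
    simp only [mul_assoc]
  have h2 : (cG g * fG σ * jG e : MulAut PSLn)⁻¹ = (fG σ * jG e)⁻¹ * (cG g)⁻¹ := by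
    rw [mul_assoc, _root_.mul_inv_rev]
  rw [h1, h2, mul_assoc, mul_inv_cancel_left, ← map_inv, ← map_mul]
  exact ⟨_, rfl⟩

end finite

/-! ### Norms -/

/-- The semilinear norm `g σ(g) ⋯ σ^{i-1}(g)`. -/
noncomputable def nrm (σ : RingAut F) (g : GL (Fin n) F) : ℕ → GL (Fin n) F
  | 0 => 1
  | i + 1 => g * Matrix.GeneralLinearGroup.map (σ : F →+* F) (nrm σ g i)

theorem nrm_zero (σ : RingAut F) (g : GLn) : nrm σ g 0 = 1 := rfl

theorem nrm_succ (σ : RingAut F) (g : GLn) (i : ℕ) :
    nrm σ g (i + 1) = g * Matrix.GeneralLinearGroup.map (σ : F →+* F) (nrm σ g i) := rfl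

theorem glmap_coe (σ : RingAut F) (g : GLn) :
    ((Matrix.GeneralLinearGroup.map (σ : F →+* F) g : GLn) : Mx) = (g : Mx).map σ := by
  ext i j
  rfl

theorem glmap_mul (σ τ : RingAut F) (g : GLn) :
    Matrix.GeneralLinearGroup.map ((σ * τ : RingAut F) : F →+* F) g =
      Matrix.GeneralLinearGroup.map (σ : F →+* F) (Matrix.GeneralLinearGroup.map (τ : F →+* F) g) := by
  apply Units.ext
  ext i j
  rfl

theorem glmap_one (g : GLn) :
    Matrix.GeneralLinearGroup.map ((1 : RingAut F) : F →+* F) g = g := by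
  apply Units.ext
  ext i j
  rfl

theorem pow_cG_fG (σ : RingAut F) (g : GLn) (i : ℕ) :
    (cG g * fG σ : MulAut PSLn) ^ i = cG (nrm σ g i) * fG (σ ^ i) := by
  induction i with
  | zero => simp [nrm_zero]
  | succ i ih =>
    rw [pow_succ', ih, nrm_succ, map_mul, pow_succ', map_mul, mul_assoc (cG g), ← mul_assoc (fG σ),
      fG_cG]
    simp only [mul_assoc]

theorem nrm_succ' (σ : RingAut F) (g : GLn) (i : ℕ) :
    nrm σ g (i + 1) = nrm σ g i * Matrix.GeneralLinearGroup.map ((σ ^ i : RingAut F) : F →+* F) g := by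
  induction i with
  | zero => rw [nrm_succ, nrm_zero, map_one, mul_one, one_mul, pow_zero, glmap_one]
  | succ i ih =>
    have h1 : nrm σ g (i + 1 + 1) =
        g * Matrix.GeneralLinearGroup.map (σ : F →+* F) (nrm σ g (i + 1)) := rfl
    conv_lhs => rw [h1, ih, map_mul, ← mul_assoc, ← nrm_succ]
    rw [pow_succ', glmap_mul]

/-- The norm on units. -/
noncomputable def uN (σ : RingAut F) (c : Fˣ) : ℕ → Fˣ
  | 0 => 1
  | i + 1 => c * Units.map (σ : F →* F) (uN σ c i)

theorem uN_zero (σ : RingAut F) (c : Fˣ) : uN σ c 0 = 1 := rfl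

theorem uN_succ (σ : RingAut F) (c : Fˣ) (i : ℕ) :
    uN σ c (i + 1) = c * Units.map (σ : F →* F) (uN σ c i) := rfl

theorem uN_coe (σ : RingAut F) (c : Fˣ) (i : ℕ) :
    ((uN σ c i : Fˣ) : F) = ∏ j ∈ Finset.range i, (σ ^ j) (c : F) := by
  induction i with
  | zero => simp [uN_zero]
  | succ i ih =>
    rw [uN_succ, Units.val_mul, Units.coe_map, Finset.prod_range_succ', mul_comm]
    congr 1
    show σ ((uN σ c i : Fˣ) : F) = _
    rw [ih, map_prod]
    refine Finset.prod_congr rfl fun j _ => ?_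
    rw [pow_succ']
    rfl

theorem glmap_scalar (σ : RingAut F) (c : Fˣ) :
    Matrix.GeneralLinearGroup.map (σ : F →+* F) (Matrix.GeneralLinearGroup.scalar (Fin n) c) =
      Matrix.GeneralLinearGroup.scalar (Fin n) (Units.map (σ : F →* F) c) := by
  rw [Matrix.GeneralLinearGroup.map_scalar]
  rfl

theorem nrm_scalar_mul (σ : RingAut F) (c : Fˣ) (g : GLn) (i : ℕ) :
    nrm σ (Matrix.GeneralLinearGroup.scalar (Fin n) c * g) i =
      Matrix.GeneralLinearGroup.scalar (Fin n) (uN σ c i) * nrm σ g i := by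
  induction i with
  | zero => simp [nrm_zero, uN_zero]
  | succ i ih =>
    rw [nrm_succ, ih, map_mul, glmap_scalar, nrm_succ, uN_succ, map_mul]
    have h := Matrix.GeneralLinearGroup.scalar_commute (Units.map (σ : F →* F) (uN σ c i)) g
    calc Matrix.GeneralLinearGroup.scalar (Fin n) c * g *
          (Matrix.GeneralLinearGroup.scalar (Fin n) (Units.map (σ : F →* F) (uN σ c i)) *
            Matrix.GeneralLinearGroup.map (σ : F →+* F) (nrm σ g i))
        = Matrix.GeneralLinearGroup.scalar (Fin n) c *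
          (g * Matrix.GeneralLinearGroup.scalar (Fin n) (Units.map (σ : F →* F) (uN σ c i))) *
            Matrix.GeneralLinearGroup.map (σ : F →+* F) (nrm σ g i) := by simp only [mul_assoc]
      _ = _ := by rw [← h]; simp only [mul_assoc]

theorem cG_scalar (c : Fˣ) : (cG (Matrix.GeneralLinearGroup.scalar (Fin n) c) : MulAut PSLn) = 1 := by
  apply cG_of_mem_center
  rw [Matrix.GeneralLinearGroup.center_eq_range_scalar]
  exact ⟨c, rfl⟩

theorem exists_scalar_of_cG_eq_one (hn : 2 ≤ n) (k : GLn) (h : (cG k : MulAut PSLn) = 1) :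
    ∃ c : Fˣ, k = Matrix.GeneralLinearGroup.scalar (Fin n) c := by
  have h1 : k ∈ (cG : GLn →* MulAut PSLn).ker := h
  rw [cG_ker hn, Matrix.GeneralLinearGroup.center_eq_range_scalar] at h1
  obtain ⟨c, hc⟩ := h1
  exact ⟨c, hc.symm⟩

theorem scalar_injective (hn : 1 ≤ n) :
    Function.Injective (Matrix.GeneralLinearGroup.scalar (Fin n) : Fˣ →* GLn) := by
  intro a b hab
  have h1 := congrArg (fun u : GLn => (u : Mx) ⟨0, hn⟩ ⟨0, hn⟩) hab
  simp only [Matrix.GeneralLinearGroup.coe_scalar, Matrix.scalar_apply, Matrix.diagonal_apply_eq]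
    at h1
  exact Units.ext h1

theorem fG_injective (hn : 2 ≤ n) : Function.Injective (fG : RingAut F →* MulAut PSLn) := by
  rw [injective_iff_map_eq_one]
  intro σ h
  have h' : (cG (1 : GLn) : MulAut PSLn) * fG σ = 1 := by rw [map_one, one_mul, h]
  exact (cG_fG_eq_one hn 1 σ h').2

/-- A field-automorphism coset element of the same order as the field automorphism is
conjugate to it under the inner-diagonal group. -/
theorem conj_of_pow_eq_one [Finite F] (hn : 2 ≤ n) (σ : RingAut F) (g : GLn)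
    (h : (cG g * fG σ : MulAut PSLn) ^ orderOf σ = 1) :
    ∃ k : GLn, (cG g * fG σ : MulAut PSLn) = cG k * fG σ * (cG k)⁻¹ := by
  have := finite_ringAut F
  have hpos : 0 < orderOf σ := orderOf_pos σ
  rw [pow_cG_fG, pow_orderOf_eq_one, map_one, mul_one] at h
  obtain ⟨lam, hlam⟩ := exists_scalar_of_cG_eq_one hn _ h
  -- `lam` is fixed by `σ`
  have hfix : Units.map (σ : F →* F) lam = lam := by
    have h1 := nrm_succ' σ g (orderOf σ)
    rw [nrm_succ, hlam, pow_orderOf_eq_one, glmap_one, glmap_scalar,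
      ← Matrix.GeneralLinearGroup.scalar_commute] at h1
    exact scalar_injective (by omega) (mul_right_cancel h1)
  have hfix' : σ (lam : F) = lam := congrArg Units.val hfix
  obtain ⟨μ, hμ0, hμ⟩ := exists_norm_eq σ lam.ne_zero hfix'
  set c : Fˣ := (Units.mk0 μ hμ0)⁻¹ with hc
  have hcN : uN σ c (orderOf σ) = lam⁻¹ := by
    apply Units.ext
    rw [uN_coe, hc, Units.val_inv_eq_inv_val, Units.val_mk0, Units.val_inv_eq_inv_val, ← hμ,
      ← Finset.prod_inv_distrib]
    refine Finset.prod_congr rfl fun j _ => ?_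
    rw [map_inv₀]
  set g' : GLn := Matrix.GeneralLinearGroup.scalar (Fin n) c * g with hg'
  have hN : nrm σ g' (orderOf σ) = 1 := by
    rw [hg', nrm_scalar_mul, hcN, hlam, ← map_mul, inv_mul_cancel, map_one]
  obtain ⟨hm, hu, hh⟩ := exists_fixed_matrix σ (g' : Mx) (fun i => (nrm σ g' i : Mx))
    (orderOf σ) (by rw [nrm_zero]; rfl)
    (fun i => by rw [nrm_succ, Units.val_mul, glmap_coe]) (by rw [hN]; rfl) rfl hpos
  obtain ⟨k, rfl⟩ := hu
  refine ⟨k, ?_⟩
  have hk : g' = k * (Matrix.GeneralLinearGroup.map (σ : F →+* F) k)⁻¹ := by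
    rw [eq_mul_inv_iff_mul_eq]
    apply Units.ext
    rw [Units.val_mul, glmap_coe]
    exact hh
  have h1 : (cG g : MulAut PSLn) = cG g' := by
    rw [hg', map_mul, cG_scalar, one_mul]
  have h2 := fG_cG (n := n) σ k
  rw [h1, hk, map_mul, map_inv, mul_assoc, mul_assoc]
  congr 1
  rw [inv_mul_eq_iff_eq_mul, ← mul_assoc, ← h2, mul_assoc, mul_inv_cancel, mul_one]

end Cfsg.Agent.Lib.Helper43.FieldAut
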