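import Mathlib
import Cfsg.Agent.Lib.Helper43.FieldAut.Inndiag
import Cfsg.Agent.Lib.Helper13.HermBasis

set_option autoImplicit false

/-!
# Cosets of graph-field automorphisms of `PSL_n(q)`
-/

namespace Cfsg.Agent.Lib.Helper43.FieldAut

open Matrix Cfsg.Agent.Lib.Helper43.AutPSLn

variable {n : ℕ} {F : Type*} [Field F]

local notation "Mx" => Matrix (Fin n) (Fin n) F
local notation "SLn" => Matrix.SpecialLinearGroup (Fin n) F
local notation "PSLn" => Matrix.ProjectiveSpecialLinearGroup (Fin n) F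
local notation "GLn" => GL (Fin n) F

/-- The sesquilinear form of a matrix. -/
noncomputable def sesq (σ : RingAut F) (A : Matrix (Fin n) (Fin n) F) :
    (Fin n → F) →ₛₗ[(σ : F →+* F)] (Fin n → F) →ₗ[F] F :=
  LinearMap.mk₂'ₛₗ (σ : F →+* F) (RingHom.id F) (fun u v => (fun i => σ (u i)) ⬝ᵥ (A *ᵥ v))
    (fun u u' v => by
      have h : (fun i => σ ((u + u') i)) = (fun i => σ (u i)) + (fun i => σ (u' i)) := by
        ext i
        simp
      rw [h, add_dotProduct])
    (fun c u v => by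
      have h : (fun i => σ ((c • u) i)) = σ c • (fun i => σ (u i)) := by
        ext i
        simp
      rw [h, smul_dotProduct]
      rfl)
    (fun u v v' => by rw [Matrix.mulVec_add, dotProduct_add])
    (fun c u v => by rw [Matrix.mulVec_smul, dotProduct_smul]; rfl)

theorem sesq_apply (σ : RingAut F) (A : Mx) (u v : Fin n → F) :
    sesq σ A u v = (fun i => σ (u i)) ⬝ᵥ (A *ᵥ v) := rfl

theorem sesq_isSymm (σ : RingAut F) (hσ2 : σ * σ = 1) (A : Mx) (hH : Aᵀ.map σ = A) :
    (sesq σ A).IsSymm := by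
  refine ⟨fun u v => ?_⟩
  have h2 : ∀ a : F, σ (σ a) = a := fun a => by
    have := DFunLike.congr_fun hσ2 a
    exact this
  have hA : ∀ i j, σ (A i j) = A j i := fun i j => by
    have := congrFun (congrFun hH j) i
    exact this
  show σ (sesq σ A u v) = sesq σ A v u
  rw [sesq_apply, sesq_apply]
  simp only [dotProduct, Matrix.mulVec, map_sum, map_mul, h2, hA, Finset.mul_sum]
  rw [Finset.sum_comm]
  refine Finset.sum_congr rfl fun j _ => Finset.sum_congr rfl fun i _ => ?_
  ring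

theorem sesq_nondegenerate (σ : RingAut F) (A : Mx) (hA : IsUnit A) :
    (sesq σ A).Nondegenerate := by
  have hdet : IsUnit A.det := (Matrix.isUnit_iff_isUnit_det A).mp hA
  constructor
  · intro u hu
    funext i
    have h1 := hu (A⁻¹ *ᵥ Pi.single i 1)
    rw [sesq_apply, Matrix.mulVec_mulVec, Matrix.mul_nonsing_inv A hdet, Matrix.one_mulVec,
      dotProduct_single, mul_one] at h1
    exact (map_eq_zero σ).mp h1
  · intro v hv
    have h1 : A *ᵥ v = 0 := by
      funext i
      have h2 := hv (Pi.single i 1)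
      rw [sesq_apply] at h2
      have h3 : (fun k => σ ((Pi.single i 1 : Fin n → F) k)) = Pi.single i 1 := by
        ext k
        by_cases hk : k = i
        · subst hk; simp
        · simp [hk]
      rw [h3, single_dotProduct, one_mul] at h2
      exact h2
    have h4 := congrArg (fun w => A⁻¹ *ᵥ w) h1
    simp only [Matrix.mulVec_mulVec, Matrix.nonsing_inv_mul A hdet, Matrix.one_mulVec,
      Matrix.mulVec_zero] at h4
    exact h4

/-- An invertible Hermitian matrix over a finite field is of the form `h σ(h)ᵀ`. -/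
theorem exists_herm_factor [Finite F] (σ : RingAut F) (hσ : σ ≠ 1) (hσ2 : σ * σ = 1)
    (A : Mx) (hA : IsUnit A) (hH : Aᵀ.map σ = A) :
    ∃ h : Mx, IsUnit h ∧ A = h * hᵀ.map σ := by
  have h2 : ∀ a : F, (σ : F →+* F) ((σ : F →+* F) a) = a := fun a => by
    have := DFunLike.congr_fun hσ2 a
    exact this
  have hne : (σ : F →+* F) ≠ RingHom.id F := by
    intro h
    apply hσ
    ext a
    exact DFunLike.congr_fun h a
  obtain ⟨w, hw⟩ := Cfsg.Agent.Lib.Helper13.herm_family (σ : F →+* F) hne h2 (sesq σ A)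
    (sesq_isSymm σ hσ2 A hH) (sesq_nondegenerate σ A hA) n
    (by rw [Module.finrank_fin_fun])
  set P : Mx := Matrix.of (fun i j => w j i) with hP
  have h1 : Pᵀ.map σ * A * P = 1 := by
    ext i j
    have h3 := hw i j
    rw [sesq_apply] at h3
    rw [Matrix.one_apply, ← h3, Matrix.mul_assoc, Matrix.mul_apply, dotProduct]
    refine Finset.sum_congr rfl fun k _ => ?_
    congr 1
  have h3 : A * P * Pᵀ.map σ = 1 := by
    rw [mul_eq_one_comm, ← Matrix.mul_assoc]
    exact h1
  have h4 : P * (Pᵀ.map σ * A) = 1 := by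
    rw [mul_eq_one_comm]
    exact h1
  refine ⟨A * P, ?_, ?_⟩
  · exact (Matrix.isUnit_iff_isUnit_det _).mpr (Matrix.isUnit_det_of_right_inverse h3)
  · have h5 : (A * P)ᵀ.map σ = Pᵀ.map σ * A := by
      rw [Matrix.transpose_mul]
      have := Matrix.map_mul (L := Pᵀ) (M := Aᵀ) (f := (σ : F →+* F))
      exact this.trans (by rw [show Aᵀ.map (σ : F →+* F) = A from hH]; rfl)
    rw [h5, Matrix.mul_assoc, h4, Matrix.mul_one]

theorem sq_cG_fG_iG (σ : RingAut F) (hσ2 : σ * σ = 1) (g : GLn) :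
    (cG g * (fG σ * iG) : MulAut PSLn) ^ 2 =
      cG (g * Matrix.GeneralLinearGroup.map (σ : F →+* F) (glInvT g)) := by
  have e1 : (iG : MulAut PSLn) * cG g = cG (glInvT g) * iG := iG_cG g
  have e2 := fG_cG (n := n) σ (glInvT g)
  have e3 : (iG : MulAut PSLn) * fG σ = fG σ * iG := iG_fG σ
  have e4 : (iG : MulAut PSLn) * iG = 1 := iG_mul_self
  have e5 : (fG σ : MulAut PSLn) * fG σ = 1 := by rw [← map_mul, hσ2, map_one]
  calc (cG g * (fG σ * iG) : MulAut PSLn) ^ 2
      = cG g * (fG σ * ((iG * cG g) * (fG σ * iG))) := by rw [pow_two]; simp only [mul_assoc]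
    _ = cG g * ((fG σ * cG (glInvT g)) * ((iG * fG σ) * iG)) := by
        rw [e1]; simp only [mul_assoc]
    _ = cG g * (cG (Matrix.GeneralLinearGroup.map (σ : F →+* F) (glInvT g)) *
          ((fG σ * fG σ) * (iG * iG))) := by rw [e2, e3]; simp only [mul_assoc]
    _ = _ := by rw [e4, e5, mul_one, mul_one, map_mul]

/-- A graph-field coset element of order two is conjugate to the standard graph-field
automorphism under the inner-diagonal group. -/
theorem conj_of_sq_eq_one [Finite F] (hn : 2 ≤ n) (σ : RingAut F) (hσ : σ ≠ 1)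
    (hσ2 : σ * σ = 1) (g : GLn) (h : (cG g * (fG σ * iG) : MulAut PSLn) ^ 2 = 1) :
    ∃ k : GLn, (cG g * (fG σ * iG) : MulAut PSLn) = cG k * (fG σ * iG) * (cG k)⁻¹ := by
  haveI : Nonempty (Fin n) := ⟨⟨0, by omega⟩⟩
  have h2 : ∀ a : F, σ (σ a) = a := fun a => by
    have := DFunLike.congr_fun hσ2 a
    exact this
  rw [sq_cG_fG_iG σ hσ2] at h
  obtain ⟨lam, hlam⟩ := exists_scalar_of_cG_eq_one hn _ h
  -- `g = lam • σ(g)ᵀ`
  have hg1 : (g : Mx) = (lam : F) • ((g : Mx)ᵀ).map σ := by
    have h1 : g = Matrix.GeneralLinearGroup.scalar (Fin n) lam *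
        Matrix.GeneralLinearGroup.map (σ : F →+* F) (glInvT g)⁻¹ := by
      rw [← hlam, map_inv, mul_inv_cancel_right]
    have h3 := congrArg (fun u : GLn => (u : Mx)) h1
    simp only [Units.val_mul, Matrix.GeneralLinearGroup.coe_scalar, glmap_coe,
      glInvT_inv_coe] at h3
    have h4 : (Matrix.scalar (Fin n)) (lam : F) * ((g : Mx)ᵀ).map σ =
        (lam : F) • ((g : Mx)ᵀ).map σ := by
      rw [Matrix.scalar_apply, ← Matrix.smul_eq_diagonal_mul]
    exact h3.trans h4
  have hg2 : ((g : Mx)ᵀ).map σ = σ (lam : F) • (g : Mx) := by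
    ext i j
    show σ ((g : Mx) j i) = σ (lam : F) * (g : Mx) i j
    have h3 : (g : Mx) j i = (lam : F) * σ ((g : Mx) i j) := congrFun (congrFun hg1 j) i
    rw [h3, map_mul, h2]
  have hll : (lam : F) * σ (lam : F) = 1 := by
    have h3 : (g : Mx) = ((lam : F) * σ (lam : F)) • (g : Mx) := by
      conv_lhs => rw [hg1, hg2, smul_smul]
    have h4 : (1 - (lam : F) * σ (lam : F)) • (g : Mx) = 0 := by
      rw [sub_smul, one_smul, ← h3, sub_self]
    rcases smul_eq_zero.mp h4 with h5 | h5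
    · exact (sub_eq_zero.mp h5).symm
    · exact absurd h5 g.ne_zero
  have hne : (σ : F →+* F) ≠ RingHom.id F := by
    intro h'
    apply hσ
    ext a
    exact DFunLike.congr_fun h' a
  obtain ⟨b, hb0, hb⟩ := Cfsg.Agent.Lib.Helper13.hilbert90_involution (σ : F →+* F) hne h2
    (lam : F) hll
  have hb' : b = σ b * (lam : F) := hb
  have hc0 : σ b ≠ 0 := (map_ne_zero σ).mpr hb0
  set c : Fˣ := Units.mk0 (σ b) hc0 with hc
  set g' : GLn := Matrix.GeneralLinearGroup.scalar (Fin n) c * g with hg'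
  have hg'c : (g' : Mx) = σ b • (g : Mx) := by
    rw [hg', Units.val_mul, Matrix.GeneralLinearGroup.coe_scalar, hc, Units.val_mk0]
    ext i j
    simp [Matrix.mul_apply, Matrix.diagonal_apply]
  have hH : ((g' : Mx)ᵀ).map σ = (g' : Mx) := by
    rw [hg'c]
    have h3 : ((σ b • (g : Mx))ᵀ).map σ = σ (σ b) • ((g : Mx)ᵀ).map σ := by
      ext i j
      simp
    rw [h3, h2, hg2, smul_smul]
    congr 1
    conv_lhs => rw [hb']
    rw [mul_assoc, hll, mul_one]
  obtain ⟨hm, hu, hfac⟩ := exists_herm_factor σ hσ hσ2 (g' : Mx) g'.isUnit hH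
  obtain ⟨k, rfl⟩ := hu
  refine ⟨k, ?_⟩
  have hk : g' = k * (Matrix.GeneralLinearGroup.map (σ : F →+* F) (glInvT k))⁻¹ := by
    apply Units.ext
    have e : ((k * (Matrix.GeneralLinearGroup.map (σ : F →+* F) (glInvT k))⁻¹ : GLn) : Mx) =
        (k : Mx) * ((k : Mx)ᵀ).map σ := by
      rw [Units.val_mul, ← map_inv, glmap_coe, glInvT_inv_coe]
    rw [e]
    exact hfac
  have h1 : (cG g : MulAut PSLn) = cG g' := by
    rw [hg', map_mul, cG_scalar, one_mul]
  have e1 : (iG : MulAut PSLn) * cG k = cG (glInvT k) * iG := iG_cG k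
  have e2 := fG_cG (n := n) σ (glInvT k)
  rw [h1, hk, map_mul, map_inv]
  have e3 : (cG (Matrix.GeneralLinearGroup.map (σ : F →+* F) (glInvT k)) : MulAut PSLn)⁻¹ *
      (fG σ * iG) = fG σ * iG * (cG k)⁻¹ := by
    rw [inv_mul_eq_iff_eq_mul, ← mul_assoc, ← mul_assoc, ← e2, mul_assoc (fG σ), ← e1,
      mul_assoc, mul_assoc, mul_inv_cancel, mul_one]
  rw [mul_assoc, e3, ← mul_assoc]

/-- A standard graph-field automorphism of prime order has order two. -/
theorem graphField_order (hn : 3 ≤ n) (σ : RingAut F) {r : ℕ} (hr : r.Prime)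
    (h : orderOf (fG σ * iG : MulAut PSLn) = r) : r = 2 ∧ σ * σ = 1 := by
  have hcomm : Commute (fG σ : MulAut PSLn) iG := (iG_fG σ).symm
  have e4 : (iG : MulAut PSLn) * iG = 1 := iG_mul_self
  have hpow : (fG σ * iG : MulAut PSLn) ^ r = 1 := by rw [← h]; exact pow_orderOf_eq_one _
  rw [hcomm.mul_pow, ← map_pow] at hpow
  have hr2 : r = 2 := by
    rcases hr.eq_two_or_odd' with h2 | hodd
    · exact h2
    · exfalso
      obtain ⟨t, ht⟩ := hodd
      have h3 : (iG : MulAut PSLn) ^ r = iG := by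
        rw [ht, pow_succ, pow_mul, pow_two, e4, one_pow, one_mul]
      rw [h3] at hpow
      apply iG_ne hn (1 : GLn) ((σ ^ r)⁻¹)
      rw [map_one, one_mul, map_inv]
      exact eq_inv_of_mul_eq_one_right hpow
  refine ⟨hr2, ?_⟩
  rw [hr2, pow_two, pow_two, e4, mul_one] at hpow
  exact fG_injective (n := n) (by omega) (hpow.trans (map_one fG).symm)

end Cfsg.Agent.Lib.Helper43.FieldAut
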