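import Mathlib
import Cfsg.Agent.Lib.Helper43.FieldAut.Graph

set_option autoImplicit false

/-!
# Elements of prime order in a field or graph-field coset of the inner-diagonal group
-/

namespace Cfsg.Agent.Lib.Helper43.FieldAut

open Matrix Cfsg.Agent.Lib.Helper43.AutPSLn

variable {n : ℕ} {F : Type*} [Field F]

local notation "Mx" => Matrix (Fin n) (Fin n) F
local notation "SLn" => Matrix.SpecialLinearGroup (Fin n) F
local notation "PSLn" => Matrix.ProjectiveSpecialLinearGroup (Fin n) F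
local notation "GLn" => GL (Fin n) F

theorem orderOf_conj_aut {G : Type*} [Group G] (a y : G) : orderOf (a * y * a⁻¹) = orderOf y :=
  (MulAut.conj a).orderOf_eq y

/-- Transport of conjugacy under a normal subgroup along a conjugation. -/
theorem conj_transport {G : Type*} [Group G] (H : Subgroup G) [hH : H.Normal] (a x d : G)
    (h : ∃ k ∈ H, (a * d * a⁻¹) * (a * x * a⁻¹) = k * (a * x * a⁻¹) * k⁻¹) :
    ∃ k ∈ H, d * x = k * x * k⁻¹ := by
  obtain ⟨k, hk, e⟩ := h
  refine ⟨a⁻¹ * k * a, ?_, ?_⟩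
  · have := hH.conj_mem k hk a⁻¹
    rwa [inv_inv] at this
  · have e2 : d * x = a⁻¹ * ((a * d * a⁻¹) * (a * x * a⁻¹)) * a := by group
    rw [e2, e]
    group

section finite

variable [Fintype F] {p f : ℕ} [Fact p.Prime]

theorem coset_conj (hf : 1 ≤ f) (hF : Fintype.card F = p ^ f) (hn : 2 ≤ n) (x δ : MulAut PSLn)
    (hx : Cfsg.IsFieldAutClassPSL x ∨ Cfsg.IsGraphFieldAutClassPSL x) {r : ℕ} (hr : r.Prime)
    (hxr : orderOf x = r) (hδ : δ ∈ (cG : GLn →* MulAut PSLn).range)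
    (hord : orderOf (δ * x) = r) :
    ∃ k ∈ (cG : GLn →* MulAut PSLn).range, δ * x = k * x * k⁻¹ := by
  haveI hN := range_cG_normal hf hF hn
  rcases hx with ⟨α, σ, hσ, hstd⟩ | ⟨h3, α, φ, γ, σ, hσ, hφ, hγ, heq⟩
  · rw [stdField_iff] at hstd
    apply conj_transport _ α
    obtain ⟨g, hg⟩ := hN.conj_mem δ hδ α
    rw [← hg, hstd]
    have ho : orderOf σ = r := by
      rw [← orderOf_injective fG (fG_injective hn) σ, ← hstd, orderOf_conj_aut, hxr]
    have hpow : (cG g * fG σ : MulAut PSLn) ^ orderOf σ = 1 := by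
      have e1 : (cG g * fG σ : MulAut PSLn) = α * (δ * x) * α⁻¹ := by
        rw [hg, ← hstd]
        group
      rw [e1, ho, ← hord, ← orderOf_conj_aut α (δ * x)]
      exact pow_orderOf_eq_one _
    obtain ⟨k, hk⟩ := conj_of_pow_eq_one hn σ g hpow
    exact ⟨cG k, ⟨k, rfl⟩, hk⟩
  · rw [stdField_iff] at hφ
    rw [invTranspose_iff] at hγ
    subst hφ hγ
    apply conj_transport _ α
    obtain ⟨g, hg⟩ := hN.conj_mem δ hδ α
    rw [← hg, heq]
    have ho : orderOf (fG σ * iG : MulAut PSLn) = r := by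
      rw [← heq, orderOf_conj_aut, hxr]
    obtain ⟨hr2, hσ2⟩ := graphField_order h3 σ hr ho
    have hσ1 : σ ≠ 1 := hσ
    have hpow : (cG g * (fG σ * iG) : MulAut PSLn) ^ 2 = 1 := by
      have e1 : (cG g * (fG σ * iG) : MulAut PSLn) = α * (δ * x) * α⁻¹ := by
        rw [hg, ← heq]
        group
      rw [e1, ← hr2, ← hord, ← orderOf_conj_aut α (δ * x)]
      exact pow_orderOf_eq_one _
    obtain ⟨k, hk⟩ := conj_of_sq_eq_one hn σ hσ1 hσ2 g hpow
    exact ⟨cG k, ⟨k, rfl⟩, hk⟩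

end finite

end Cfsg.Agent.Lib.Helper43.FieldAut
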