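import Mathlib
import Cfsg.Agent.Lib.Helper43.FieldAut.Coset

set_option autoImplicit false

/-!
# The centralizer of a field automorphism in the inner-diagonal group of `PSL_n(q)`
-/

namespace Cfsg.Agent.Lib.Helper43.FieldAut

open Matrix Cfsg.Agent.Lib.Helper43.AutPSLn

variable {n : ℕ} {F : Type*} [Field F] {F₀ : Type*} [Field F₀]

local notation "Mx" => Matrix (Fin n) (Fin n) F
local notation "SLn" => Matrix.SpecialLinearGroup (Fin n) F
local notation "PSLn" => Matrix.ProjectiveSpecialLinearGroup (Fin n) F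
local notation "GLn" => GL (Fin n) F

/-- `j` identifies `F₀` with the fixed field of `σ`. -/
def IsFixEmb (σ : RingAut F) (j : F₀ →+* F) : Prop := ∀ a : F, σ a = a ↔ ∃ b : F₀, j b = a

theorem glmap_map_of_fix (σ : RingAut F) (j : F₀ →+* F) (hj : IsFixEmb σ j)
    (k : GL (Fin n) F₀) :
    Matrix.GeneralLinearGroup.map (σ : F →+* F) (Matrix.GeneralLinearGroup.map j k) =
      Matrix.GeneralLinearGroup.map j k := by
  apply Units.ext
  ext a b
  show σ (j ((k : Matrix (Fin n) (Fin n) F₀) a b)) = j ((k : Matrix (Fin n) (Fin n) F₀) a b)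
  exact (hj _).mpr ⟨_, rfl⟩

theorem exists_map_of_fixed (σ : RingAut F) (j : F₀ →+* F) (hj : IsFixEmb σ j) (g : GLn)
    (h : Matrix.GeneralLinearGroup.map (σ : F →+* F) g = g) :
    ∃ k : GL (Fin n) F₀, Matrix.GeneralLinearGroup.map j k = g := by
  have hfix : ∀ a b, σ ((g : Mx) a b) = (g : Mx) a b := fun a b => by
    have := congrArg (fun u : GLn => (u : Mx) a b) h
    exact this
  choose m hm using fun a b => (hj _).mp (hfix a b)
  have h2 : (Matrix.of m).map j = (g : Mx) := by
    ext a b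
    exact hm a b
  have hdet : (Matrix.of m).det ≠ 0 := by
    intro h0
    have h1 : ((Matrix.of m).map j).det = 0 := by
      rw [← RingHom.mapMatrix_apply, ← RingHom.map_det, h0, map_zero]
    rw [h2] at h1
    exact ((Matrix.isUnit_iff_isUnit_det _).mp g.isUnit).ne_zero h1
  refine ⟨Matrix.GeneralLinearGroup.mkOfDetNeZero (Matrix.of m) hdet, ?_⟩
  apply Units.ext
  ext a b
  exact hm a b

/-- An inner-diagonal automorphism commuting with a field automorphism comes from a matrix over
the fixed field. -/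
theorem cent_fG [Finite F] (hn : 2 ≤ n) (σ : RingAut F) (j : F₀ →+* F) (hj : IsFixEmb σ j)
    (g : GLn) (h : (cG g : MulAut PSLn) * fG σ = fG σ * cG g) :
    ∃ k : GL (Fin n) F₀, (cG g : MulAut PSLn) = cG (Matrix.GeneralLinearGroup.map j k) := by
  have := finite_ringAut F
  have hpos : 0 < orderOf σ := orderOf_pos σ
  rw [fG_cG] at h
  have h1 : (cG (g⁻¹ * Matrix.GeneralLinearGroup.map (σ : F →+* F) g) : MulAut PSLn) = 1 := by
    rw [map_mul, map_inv, ← mul_right_cancel h, inv_mul_cancel]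
  obtain ⟨lam, hlam⟩ := exists_scalar_of_cG_eq_one hn _ h1
  have hg : Matrix.GeneralLinearGroup.map (σ : F →+* F) g =
      Matrix.GeneralLinearGroup.scalar (Fin n) lam * g := by
    rw [Matrix.GeneralLinearGroup.scalar_commute, ← hlam, mul_inv_cancel_left]
  have hpow : ∀ i : ℕ, Matrix.GeneralLinearGroup.map ((σ ^ i : RingAut F) : F →+* F) g =
      Matrix.GeneralLinearGroup.scalar (Fin n) (uN σ lam i) * g := by
    intro i
    induction i with
    | zero => rw [pow_zero, glmap_one, uN_zero, map_one, one_mul]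
    | succ i ih =>
      rw [pow_succ', glmap_mul, ih, map_mul, glmap_scalar, hg, uN_succ, ← mul_assoc, ← map_mul,
        mul_comm]
  have hN : uN σ lam (orderOf σ) = 1 := by
    have h2 := hpow (orderOf σ)
    rw [pow_orderOf_eq_one, glmap_one] at h2
    have h3 : Matrix.GeneralLinearGroup.scalar (Fin n) (uN σ lam (orderOf σ)) = 1 :=
      (mul_eq_right (b := g)).mp h2.symm
    exact scalar_injective (by omega) (h3.trans (map_one _).symm)
  have hN' : ∏ i ∈ Finset.range (orderOf σ), (σ ^ i) (lam : F) = 1 := by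
    rw [← uN_coe, hN, Units.val_one]
  obtain ⟨μ, hμ0, hμ⟩ := exists_scalar_of_norm_one σ (orderOf σ) rfl hpos (lam : F) hN'
  set c : Fˣ := Units.mk0 μ hμ0 with hc
  have hcl : Units.map (σ : F →* F) c * lam = c := by
    apply Units.ext
    rw [Units.val_mul, Units.coe_map, hc, Units.val_mk0, mul_comm]
    exact hμ
  set g' : GLn := Matrix.GeneralLinearGroup.scalar (Fin n) c * g with hg'
  have hfix : Matrix.GeneralLinearGroup.map (σ : F →+* F) g' = g' := by
    rw [hg', map_mul, glmap_scalar, hg, ← mul_assoc, ← map_mul, hcl]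
  obtain ⟨k, hk⟩ := exists_map_of_fixed σ j hj g' hfix
  refine ⟨k, ?_⟩
  rw [hk, hg', map_mul, cG_scalar, one_mul]

/-- The embedding of `GL_n(F₀)` into `Aut PSL_n(F)`. -/
noncomputable def theta (j : F₀ →+* F) :
    GL (Fin n) F₀ →* MulAut (Matrix.ProjectiveSpecialLinearGroup (Fin n) F) :=
  (cG : GL (Fin n) F →* MulAut (Matrix.ProjectiveSpecialLinearGroup (Fin n) F)).comp
    (Matrix.GeneralLinearGroup.map j)

theorem theta_apply (j : F₀ →+* F) (k : GL (Fin n) F₀) :
    (theta j k : MulAut PSLn) = cG (Matrix.GeneralLinearGroup.map j k) := rfl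

theorem theta_ker (hn : 2 ≤ n) (j : F₀ →+* F) :
    (theta j : GL (Fin n) F₀ →* MulAut PSLn).ker = Subgroup.center (GL (Fin n) F₀) := by
  ext k
  rw [MonoidHom.mem_ker, theta_apply]
  constructor
  · intro h
    have h1 : Matrix.GeneralLinearGroup.map j k ∈ (cG : GLn →* MulAut PSLn).ker := h
    rw [cG_ker hn, Matrix.GeneralLinearGroup.mem_center_iff_val_mem_range_scalar] at h1
    obtain ⟨c, hc⟩ := h1
    rw [Matrix.GeneralLinearGroup.mem_center_iff_val_mem_range_scalar]
    have hent : ∀ a b, j ((k : Matrix (Fin n) (Fin n) F₀) a b) = if a = b then c else 0 := by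
      intro a b
      have := congrFun (congrFun hc a) b
      rw [Matrix.scalar_apply, Matrix.diagonal_apply] at this
      exact this.symm
    refine ⟨(k : Matrix (Fin n) (Fin n) F₀) ⟨0, by omega⟩ ⟨0, by omega⟩, ?_⟩
    ext a b
    rw [Matrix.scalar_apply, Matrix.diagonal_apply]
    apply j.injective
    rw [hent a b]
    by_cases hab : a = b
    · rw [if_pos hab, if_pos hab, hent, if_pos rfl]
    · rw [if_neg hab, if_neg hab, map_zero]
  · intro h
    exact cG_of_mem_center _ (Matrix.GeneralLinearGroup.map_center_le j h)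

/-- The centralizer of the standard field automorphism in the inner-diagonal group. -/
theorem inf_centralizer_fG [Finite F] (hn : 2 ≤ n) (σ : RingAut F) (j : F₀ →+* F)
    (hj : IsFixEmb σ j) :
    (cG : GLn →* MulAut PSLn).range ⊓ Subgroup.centralizer {(fG σ : MulAut PSLn)} =
      (theta j : GL (Fin n) F₀ →* MulAut PSLn).range := by
  ext y
  rw [Subgroup.mem_inf, Subgroup.mem_centralizer_iff]
  constructor
  · rintro ⟨⟨g, rfl⟩, hc⟩
    have h1 := hc (fG σ) rfl
    obtain ⟨k, hk⟩ := cent_fG hn σ j hj g h1.symm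
    exact ⟨k, hk.symm⟩
  · rintro ⟨k, rfl⟩
    refine ⟨⟨_, rfl⟩, ?_⟩
    intro z hz
    rw [Set.mem_singleton_iff] at hz
    subst hz
    rw [theta_apply, fG_cG, glmap_map_of_fix σ j hj]

/-- Conjugating the intersection of a normal subgroup with a centralizer. -/
theorem inf_centralizer_conj {G : Type*} [Group G] (H : Subgroup G) [hH : H.Normal] (a ψ : G) :
    H ⊓ Subgroup.centralizer {a * ψ * a⁻¹} =
      (H ⊓ Subgroup.centralizer {ψ}).map (MulAut.conj a).toMonoidHom := by
  ext y
  simp only [Subgroup.mem_inf, Subgroup.mem_centralizer_iff, Set.mem_singleton_iff, forall_eq,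
    Subgroup.mem_map, MulEquiv.coe_toMonoidHom, MulAut.conj_apply]
  constructor
  · rintro ⟨hy, hc⟩
    refine ⟨a⁻¹ * y * a, ⟨?_, ?_⟩, by group⟩
    · have := hH.conj_mem y hy a⁻¹
      rwa [inv_inv] at this
    · have e1 : ψ * (a⁻¹ * y * a) = a⁻¹ * ((a * ψ * a⁻¹) * y) * a := by group
      rw [e1, hc]
      group
  · rintro ⟨z, ⟨hz, hc⟩, rfl⟩
    refine ⟨hH.conj_mem z hz a, ?_⟩
    have e1 : a * ψ * a⁻¹ * (a * z * a⁻¹) = a * (ψ * z) * a⁻¹ := by group
    rw [e1, hc]
    group

theorem normal_map_conj {G : Type*} [Group G] (H : Subgroup G) [hH : H.Normal] (a : G) :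
    H.map (MulAut.conj a).toMonoidHom = H := by
  ext y
  simp only [Subgroup.mem_map, MulEquiv.coe_toMonoidHom, MulAut.conj_apply]
  constructor
  · rintro ⟨z, hz, rfl⟩
    exact hH.conj_mem z hz a
  · intro hy
    refine ⟨a⁻¹ * y * a, ?_, by group⟩
    have := hH.conj_mem y hy a⁻¹
    rwa [inv_inv] at this

/-- The centralizer of a field automorphism in the inner-diagonal group is `PGL_n` of the
fixed field. -/
theorem centralizer_equiv [Finite F] (hn : 2 ≤ n) (σ : RingAut F) (j : F₀ →+* F)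
    (hj : IsFixEmb σ j) (hN : ((cG : GLn →* MulAut PSLn).range).Normal) (a : MulAut PSLn) :
    Nonempty (↥((cG : GLn →* MulAut PSLn).range ⊓
      Subgroup.centralizer {a * (fG σ : MulAut PSLn) * a⁻¹}) ≃*
        Matrix.ProjGenLinGroup (Fin n) F₀) := by
  haveI := hN
  rw [inf_centralizer_conj, inf_centralizer_fG hn σ j hj]
  have e1 : GL (Fin n) F₀ ⧸ (theta j : GL (Fin n) F₀ →* MulAut PSLn).ker ≃*
      Matrix.ProjGenLinGroup (Fin n) F₀ :=
    QuotientGroup.quotientMulEquivOfEq (theta_ker hn j)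
  have e2 := QuotientGroup.quotientKerEquivRange (theta j : GL (Fin n) F₀ →* MulAut PSLn)
  have e3 := (MulAut.conj a).subgroupMap (theta j : GL (Fin n) F₀ →* MulAut PSLn).range
  exact ⟨(e3.symm.trans e2.symm).trans e1⟩

end Cfsg.Agent.Lib.Helper43.FieldAut
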