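import Mathlib
import Cfsg.Agent.Lib.Helper43.FieldAut.Cent

set_option autoImplicit false

/-!
# Splitting of classes of the inner-diagonal group into classes of the inner group
-/

namespace Cfsg.Agent.Lib.Helper43.FieldAut

open Matrix Cfsg.Agent.Lib.Helper43.AutPSLn

open scoped Pointwise

/-- The number of `K`-classes in the `H`-class of `x`, for `K ≤ H` normal. -/
theorem splitClassCount_eq {X : Type*} [Group X] (H K : Subgroup X) [hK : K.Normal]
    (hKH : K ≤ H) (x : X) :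
    Cfsg.splitClassCount H K x = (K ⊔ (H ⊓ Subgroup.centralizer {x})).relIndex H := by
  set R : {y : X // Cfsg.IsConjUnder H x y} → {y : X // Cfsg.IsConjUnder H x y} → Prop :=
    fun y z => Cfsg.IsConjUnder K y.1 z.1 with hR
  have hRe : Equivalence R :=
    ⟨fun y => ⟨1, K.one_mem, by simp⟩,
     fun {y z} ⟨k, hk, e⟩ => ⟨k⁻¹, K.inv_mem hk, by rw [e]; group⟩,
     fun {y z w} ⟨k, hk, e⟩ ⟨k', hk', e'⟩ => ⟨k' * k, K.mul_mem hk' hk, by rw [e', e]; group⟩⟩
  let φ : H → Quot R := fun h => Quot.mk R ⟨(h : X) * x * (h : X)⁻¹, ⟨h, h.2, rfl⟩⟩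
  have hφ : Function.Surjective φ := by
    intro q
    induction q using Quot.ind with
    | _ y =>
      obtain ⟨y, h, hh, e⟩ := y
      subst e
      exact ⟨⟨h, hh⟩, rfl⟩
  set D := K ⊔ (H ⊓ Subgroup.centralizer {x}) with hD
  have hker : Setoid.ker φ = QuotientGroup.leftRel (D.subgroupOf H) := by
    ext h h'
    rw [Setoid.ker_def, QuotientGroup.leftRel_apply, Subgroup.mem_subgroupOf]
    show Quot.mk R _ = Quot.mk R _ ↔ _
    rw [Quot.eq, hRe.eqvGen_iff]
    constructor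
    · rintro ⟨k, hk, e⟩
      have e' : (h' : X) * x * (h' : X)⁻¹ = k * ((h : X) * x * (h : X)⁻¹) * k⁻¹ := e
      have hc : (h' : X)⁻¹ * k * h ∈ H ⊓ Subgroup.centralizer {x} := by
        refine ⟨H.mul_mem (H.mul_mem (H.inv_mem h'.2) (hKH hk)) h.2,
          Subgroup.mem_centralizer_iff.mpr ?_⟩
        intro z hz
        rw [Set.mem_singleton_iff] at hz
        subst hz
        have h2 : (h' : X)⁻¹ * (k * ((h : X) * z * (h : X)⁻¹) * k⁻¹) * (h' : X) = z := by
          rw [← e']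
          group
        calc z * ((h' : X)⁻¹ * k * h)
            = ((h' : X)⁻¹ * (k * ((h : X) * z * (h : X)⁻¹) * k⁻¹) * (h' : X)) *
                ((h' : X)⁻¹ * k * h) := by rw [h2]
          _ = (h' : X)⁻¹ * k * h * z := by group
      have e3 : ((h⁻¹ * h' : H) : X) = ((h : X)⁻¹ * k * h) * ((h' : X)⁻¹ * k * h)⁻¹ := by
        push_cast
        group
      rw [e3]
      refine D.mul_mem (Subgroup.mem_sup_left ?_) (D.inv_mem (Subgroup.mem_sup_right hc))
      have := hK.conj_mem k hk (h : X)⁻¹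
      rwa [inv_inv] at this
    · intro hmem
      have hmem' : ((h⁻¹ * h' : H) : X) ∈
          (K : Set X) * ((H ⊓ Subgroup.centralizer {x} : Subgroup X) : Set X) := by
        rw [← Subgroup.normal_mul]
        exact hmem
      obtain ⟨k₁, hk₁, c, hc, e⟩ := hmem'
      have e2 : (h' : X) = h * k₁ * c := by
        have e4 : k₁ * c = (h : X)⁻¹ * h' := by
          have e5 : k₁ * c = ((h⁻¹ * h' : H) : X) := e
          rw [e5]
          push_cast
          rfl
        rw [mul_assoc, e4]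
        group
      have hcx : c * x * c⁻¹ = x := by
        have := (Subgroup.mem_centralizer_iff.mp hc.2) x rfl
        rw [← this]
        group
      refine ⟨h * k₁ * (h : X)⁻¹, hK.conj_mem k₁ hk₁ h, ?_⟩
      show (h' : X) * x * (h' : X)⁻¹ = _
      calc (h' : X) * x * (h' : X)⁻¹ = h * k₁ * (c * x * c⁻¹) * k₁⁻¹ * (h : X)⁻¹ := by
            rw [e2]
            group
        _ = _ := by
            rw [hcx]
            group
  show Nat.card (Quot R) = _
  rw [Nat.card_congr (Setoid.quotientKerEquivOfSurjective φ hφ).symm, hker]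
  rfl

theorem pow_range_sup {G : Type*} [CommGroup G] (a b : ℕ) :
    (powMonoidHom a : G →* G).range ⊔ (powMonoidHom b : G →* G).range =
      (powMonoidHom (Nat.gcd a b) : G →* G).range := by
  apply le_antisymm
  · rw [sup_le_iff]
    constructor
    · rintro _ ⟨y, rfl⟩
      obtain ⟨c, hc⟩ := Nat.gcd_dvd_left a b
      refine ⟨y ^ c, ?_⟩
      show (y ^ c) ^ (Nat.gcd a b) = y ^ a
      rw [← pow_mul, mul_comm, ← hc]
    · rintro _ ⟨y, rfl⟩
      obtain ⟨c, hc⟩ := Nat.gcd_dvd_right a b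
      refine ⟨y ^ c, ?_⟩
      show (y ^ c) ^ (Nat.gcd a b) = y ^ b
      rw [← pow_mul, mul_comm, ← hc]
  · rintro _ ⟨y, rfl⟩
    have h1 : y ^ (Nat.gcd a b) = (y ^ (Nat.gcdA a b)) ^ a * (y ^ (Nat.gcdB a b)) ^ b := by
      rw [← zpow_natCast y (Nat.gcd a b), Nat.gcd_eq_gcd_ab, _root_.zpow_add, ← zpow_natCast _ a,
        ← zpow_natCast _ b, ← _root_.zpow_mul, ← _root_.zpow_mul, mul_comm (a : ℤ), mul_comm (b : ℤ)]
    show y ^ (Nat.gcd a b) ∈ _
    rw [h1]
    exact Subgroup.mul_mem_sup ⟨_, rfl⟩ ⟨_, rfl⟩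

variable {n : ℕ} {F : Type*} [Field F] {F₀ : Type*} [Field F₀]

local notation "Mx" => Matrix (Fin n) (Fin n) F
local notation "SLn" => Matrix.SpecialLinearGroup (Fin n) F
local notation "PSLn" => Matrix.ProjectiveSpecialLinearGroup (Fin n) F
local notation "GLn" => GL (Fin n) F

theorem inn_le_range_cG : Cfsg.Inn PSLn ≤ (cG : GLn →* MulAut PSLn).range := by
  rintro _ ⟨y, rfl⟩
  obtain ⟨s, rfl⟩ := pmn_surjective y
  exact ⟨Matrix.SpecialLinearGroup.toGL s, cG_toGL s⟩

theorem comap_sup_eq (hn : 2 ≤ n) (j : F₀ →+* F) :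
    (Cfsg.Inn PSLn ⊔ (theta j : GL (Fin n) F₀ →* MulAut PSLn).range).comap
        (cG : GLn →* MulAut PSLn) =
      ((powMonoidHom n : Fˣ →* Fˣ).range ⊔ (Units.map (j : F₀ →* F)).range).comap
        (Matrix.GeneralLinearGroup.det : GLn →* Fˣ) := by
  ext g
  rw [Subgroup.mem_comap, Subgroup.mem_comap]
  constructor
  · intro hmem
    have hmem' : (cG g : MulAut PSLn) ∈ ((Cfsg.Inn PSLn : Subgroup (MulAut PSLn)) :
        Set (MulAut PSLn)) * (((theta j : GL (Fin n) F₀ →* MulAut PSLn).range :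
          Subgroup (MulAut PSLn)) : Set (MulAut PSLn)) := by
      rw [← Subgroup.normal_mul]
      exact hmem
    obtain ⟨_, ⟨y, rfl⟩, _, ⟨k, rfl⟩, e⟩ := hmem'
    obtain ⟨s, rfl⟩ := pmn_surjective y
    have e1 : (MulAut.conj (pmn s) : MulAut PSLn) = cG (Matrix.SpecialLinearGroup.toGL s) :=
      (cG_toGL s).symm
    have e : (MulAut.conj (pmn s) : MulAut PSLn) * theta j k = cG g := e
    rw [e1, theta_apply, ← map_mul] at e
    have h1 : (cG (g⁻¹ * (Matrix.SpecialLinearGroup.toGL s *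
        Matrix.GeneralLinearGroup.map j k)) : MulAut PSLn) = 1 := by
      rw [map_mul cG, e, map_inv, inv_mul_cancel]
    obtain ⟨c, hc⟩ := exists_scalar_of_cG_eq_one hn _ h1
    have h2 : Matrix.SpecialLinearGroup.toGL s * Matrix.GeneralLinearGroup.map j k =
        g * Matrix.GeneralLinearGroup.scalar (Fin n) c := by
      rw [← hc, mul_inv_cancel_left]
    have h3 := congrArg (Matrix.GeneralLinearGroup.det : GLn →* Fˣ) h2
    rw [map_mul, map_mul, Matrix.GeneralLinearGroup.det_scalar, Fintype.card_fin,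
      Matrix.GeneralLinearGroup.map_det] at h3
    have h4 : Matrix.GeneralLinearGroup.det (Matrix.SpecialLinearGroup.toGL s) = 1 := by
      apply Units.ext
      rw [Matrix.GeneralLinearGroup.val_det_apply]
      exact s.2
    rw [h4, one_mul] at h3
    rw [Subgroup.mem_sup]
    refine ⟨(c⁻¹) ^ n, ⟨c⁻¹, rfl⟩, _, ⟨Matrix.GeneralLinearGroup.det k, rfl⟩, ?_⟩
    rw [h3, inv_pow, mul_comm, mul_assoc, mul_inv_cancel, mul_one]
  · intro hmem
    rw [Subgroup.mem_sup] at hmem
    obtain ⟨_, ⟨a, rfl⟩, _, ⟨b, rfl⟩, e⟩ := hmem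
    have e' : a ^ n * Units.map (j : F₀ →* F) b = Matrix.GeneralLinearGroup.det g := e
    set d : GL (Fin n) F₀ := dHom ⟨0, by omega⟩ b with hd
    set g₁ : GLn := g * (Matrix.GeneralLinearGroup.scalar (Fin n) a)⁻¹ *
      (Matrix.GeneralLinearGroup.map j d)⁻¹ with hg₁
    have hdet : Matrix.GeneralLinearGroup.det g₁ = 1 := by
      rw [hg₁, map_mul, map_mul, map_inv, map_inv, Matrix.GeneralLinearGroup.det_scalar,
        Fintype.card_fin, Matrix.GeneralLinearGroup.map_det, hd, gl_det_dHom, ← e']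
      rw [mul_comm (a ^ n), mul_inv_cancel_right, mul_inv_cancel]
    have hdet' : (g₁ : Mx).det = 1 := by
      rw [← Matrix.GeneralLinearGroup.val_det_apply, hdet, Units.val_one]
    obtain ⟨s₁, hs₁⟩ : ∃ s₁ : SLn, Matrix.SpecialLinearGroup.toGL s₁ = g₁ :=
      ⟨⟨(g₁ : Mx), hdet'⟩, Units.ext rfl⟩
    have hg : g = g₁ * Matrix.GeneralLinearGroup.map j d *
        Matrix.GeneralLinearGroup.scalar (Fin n) a := by
      rw [hg₁]
      group
    have hcg : (cG g₁ : MulAut PSLn) = MulAut.conj (pmn s₁) := by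
      rw [← hs₁]
      exact cG_toGL s₁
    rw [hg, map_mul, map_mul, cG_scalar, mul_one, hcg]
    exact Subgroup.mul_mem_sup ⟨_, rfl⟩ ⟨d, rfl⟩

theorem relIndex_eq (hn : 2 ≤ n) (j : F₀ →+* F) :
    (Cfsg.Inn PSLn ⊔ (theta j : GL (Fin n) F₀ →* MulAut PSLn).range).relIndex
        (cG : GLn →* MulAut PSLn).range =
      ((powMonoidHom n : Fˣ →* Fˣ).range ⊔ (Units.map (j : F₀ →* F)).range).index := by
  haveI : Nonempty (Fin n) := ⟨⟨0, by omega⟩⟩
  rw [← Subgroup.index_comap, comap_sup_eq hn j,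
    Subgroup.index_comap_of_surjective _ Matrix.GeneralLinearGroup.det_surjective]

theorem units_fixed_eq [Finite F] (σ : RingAut F) (j : F₀ →+* F) (hj : IsFixEmb σ j) :
    (Units.map (j : F₀ →* F)).range =
      (powMonoidHom ((Nat.card F - 1) / (Nat.card (fixF σ) - 1)) : Fˣ →* Fˣ).range := by
  ext u
  constructor
  · rintro ⟨b, rfl⟩
    have h1 : σ ((Units.map (j : F₀ →* F) b : Fˣ) : F) = (Units.map (j : F₀ →* F) b : Fˣ) :=
      (hj _).mpr ⟨b, rfl⟩
    obtain ⟨μ, hμ0, hμ⟩ := exists_norm_eq σ (Units.ne_zero _) h1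
    rw [prod_eq_pow] at hμ
    refine ⟨Units.mk0 μ hμ0, ?_⟩
    apply Units.ext
    show ((Units.mk0 μ hμ0 ^ _ : Fˣ) : F) = _
    rw [Units.val_pow_eq_pow_val, Units.val_mk0]
    exact hμ
  · rintro ⟨a, rfl⟩
    have h1 : σ ((a : F) ^ ((Nat.card F - 1) / (Nat.card (fixF σ) - 1))) =
        (a : F) ^ ((Nat.card F - 1) / (Nat.card (fixF σ) - 1)) := by
      rw [← prod_eq_pow σ, ← norm_eq_prod]
      exact (mem_fixF σ).mp (Subtype.prop _)
    obtain ⟨b, hb⟩ := (hj _).mp h1
    have hb0 : b ≠ 0 := by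
      intro h0
      rw [h0, map_zero] at hb
      exact (pow_ne_zero _ a.ne_zero) hb.symm
    refine ⟨Units.mk0 b hb0, ?_⟩
    apply Units.ext
    show j b = ((a ^ _ : Fˣ) : F)
    rw [hb, Units.val_pow_eq_pow_val]

theorem index_sup_eq [Finite F] (σ : RingAut F) (j : F₀ →+* F) (hj : IsFixEmb σ j) :
    ((powMonoidHom n : Fˣ →* Fˣ).range ⊔ (Units.map (j : F₀ →* F)).range).index =
      Nat.gcd n ((Nat.card F - 1) / (Nat.card (fixF σ) - 1)) := by
  have := finite_ringAut F
  rw [units_fixed_eq σ j hj, pow_range_sup, IsCyclic.index_powMonoidHom_range, Nat.card_units]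
  apply Nat.gcd_eq_right
  refine dvd_trans (Nat.gcd_dvd_right _ _) (Nat.div_dvd_of_dvd ?_)
  rw [← card_fixF_pow σ]
  exact Nat.sub_one_dvd_pow_sub_one _ _

/-- The class of a field automorphism under the inner-diagonal group splits into
`gcd(n, (q-1)/(q₀-1))` classes under the inner group. -/
theorem splitCount_field [Finite F] (hn : 2 ≤ n) (σ : RingAut F)
    (hN : ((cG : GLn →* MulAut PSLn).range).Normal) (a : MulAut PSLn) :
    Cfsg.splitClassCount (cG : GLn →* MulAut PSLn).range (Cfsg.Inn PSLn)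
        (a * (fG σ : MulAut PSLn) * a⁻¹) =
      Nat.gcd n ((Nat.card F - 1) / (Nat.card (fixF σ) - 1)) := by
  haveI := hN
  have hj : IsFixEmb σ (fixF σ).subtype := by
    intro b
    rw [← mem_fixF]
    constructor
    · intro hb
      exact ⟨⟨b, hb⟩, rfl⟩
    · rintro ⟨c, rfl⟩
      exact c.2
  rw [splitClassCount_eq _ _ inn_le_range_cG, inf_centralizer_conj,
    inf_centralizer_fG hn σ _ hj]
  conv_lhs =>
    rw [← normal_map_conj (Cfsg.Inn PSLn) a, ← Subgroup.map_sup]
  conv_lhs =>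
    arg 2
    rw [← normal_map_conj (cG : GLn →* MulAut PSLn).range a]
  rw [Subgroup.relIndex_map_map_of_injective _ _ (MulAut.conj a).injective, relIndex_eq hn,
    index_sup_eq σ _ hj]

end Cfsg.Agent.Lib.Helper43.FieldAut
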